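import Groth.Agent.H25Gor.Scheme
import Groth.Agent.H8Props.FlatFibreConst
import Groth.Agent.H8Props.FibreCriterion

/-!
# Gorenstein local rings under change of the base field; base change of Gorenstein morphisms
-/

set_option autoImplicit false
set_option linter.style.haveILetI false
universe u

open CategoryTheory CategoryTheory.Limits AlgebraicGeometry IsLocalRing LocCoh Groth.Agent.H02CA.GorFlat
open scoped TensorProduct

namespace Groth.Agent.H25Gor

theorem gor_spec (R : CommRingCat.{u}) [IsGorensteinRing R] (x : Spec R) :
    IsGorensteinLocalRing ((Spec R).presheaf.stalk x) :=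
  haveI : IsGorensteinRing Γ(Spec R, ⊤) :=
    isGorensteinRing_of_ringEquiv (Scheme.ΓSpecIso R).commRingCatIsoToRingEquiv.symm inferInstance
  gor_stalk_of_sections (isAffineOpen_top _) x trivial

theorem gor_stalk_of_iso {X Y : Scheme.{u}} (e : X ≅ Y) (x : X)
    (h : IsGorensteinLocalRing (Y.presheaf.stalk (e.hom x))) : IsGorensteinLocalRing (X.presheaf.stalk x) :=
  gor_of_ringEquiv (asIso (e.hom.stalkMap x)).commRingCatIsoToRingEquiv h

theorem exists_finset_adjoin {K L : Type u} [Field K] [Field L] [Algebra K L] (h : Algebra.EssFiniteType K L) :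
    ∃ s : Finset L, IntermediateField.adjoin K (s : Set L) = ⊤ :=
  IntermediateField.fg_top_iff.mpr h

variable (K K' : Type u) [Field K] [Field K'] [Algebra K K']

variable {K K'} {P P' : Scheme.{u}} {Φ : P' ⟶ P} {p : P ⟶ Spec (CommRingCat.of K)}
  {p' : P' ⟶ Spec (CommRingCat.of K')}

/-- The closed fibre of a base field extension is Gorenstein when the extension or the residue field is finitely
generated. -/
theorem gor_closedFibre (H : IsPullback Φ p' p (Spec.map (CommRingCat.ofHom (algebraMap K K')))) (u' : P')
    (h : Algebra.EssFiniteType K K' ∨ LocallyOfFiniteType p) :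
    IsGorensteinLocalRing
      (P'.presheaf.stalk u' ⧸ (maximalIdeal (P.presheaf.stalk (Φ u'))).map (Φ.stalkMap u').hom) := by
  refine gor_of_ringEquiv (H8Props.FibreStalk.asFiberStalkEquiv Φ u').symm ?_
  obtain ⟨ψ, hψ⟩ := Spec.map_surjective (P.fromSpecResidueField (Φ u') ≫ p)
  letI : Algebra K (P.residueField (Φ u')) := ψ.hom.toAlgebra
  have e : P.fromSpecResidueField (Φ u') ≫ p =
      Spec.map (CommRingCat.ofHom (algebraMap K (P.residueField (Φ u')))) := hψ.symm
  have hfg : IsGorensteinRing (P.residueField (Φ u') ⊗[K] K') := by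
    rcases h with h | h
    · exact isGorensteinRing_field_tensor K _ K' (exists_finset_adjoin h)
    · have hess : Algebra.EssFiniteType K (P.residueField (Φ u')) := by
        obtain ⟨θ, hθ⟩ := Spec.map_surjective ((Spec (CommRingCat.of K)).fromSpecResidueField (p (Φ u')))
        have hsurj : Function.Surjective θ.hom := by
          haveI : IsClosedImmersion (Spec.map θ) := by
            rw [hθ]
            refine IsClosedImmersion.of_isPreimmersion _ ?_
            rw [Scheme.range_fromSpecResidueField]
            have : Subsingleton (Spec (CommRingCat.of K)) := inferInstanceAs (Subsingleton (PrimeSpectrum K))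
            exact (Set.subsingleton_singleton).isClosed
          have h1 := (IsClosedImmersion.isAffine_surjective_of_isAffine (Spec.map θ)).2
          intro b
          obtain ⟨a, ha⟩ := h1 ((Scheme.ΓSpecIso _).inv b)
          refine ⟨(Scheme.ΓSpecIso _).hom a, ?_⟩
          have h2 := ConcreteCategory.congr_hom (Scheme.ΓSpecIso_naturality θ) a
          simp only [CommRingCat.comp_apply] at h2
          rw [← h2, ha]
          exact Iso.inv_hom_id_apply _ b
        have hfac : ψ = θ ≫ p.residueFieldMap (Φ u') := by
          apply Spec.map_injective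
          rw [Spec.map_comp, hθ, hψ, Scheme.Hom.SpecMap_residueFieldMap_fromSpecResidueField]
        have : ψ.hom.EssFiniteType := by
          rw [hfac, CommRingCat.hom_comp]
          exact (RingHom.FiniteType.of_surjective _ hsurj).essFiniteType.comp
            (RingHom.EssFiniteType.residueFieldMap (LocallyOfFiniteType.stalkMap p (Φ u')))
        exact this
      exact isGorensteinRing_of_ringEquiv (Algebra.TensorProduct.comm K K' _).toRingEquiv
        (isGorensteinRing_field_tensor K K' _ (exists_finset_adjoin hess))
  have H2 : IsPullback (Φ.fiberι (Φ u')) (Φ.fiberToSpecResidueField (Φ u')) Φ (P.fromSpecResidueField (Φ u')) :=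
    IsPullback.of_hasPullback _ _
  have H3 := H2.flip.paste_vert H
  let iso := H3.isoPullback ≪≫ pullback.congrHom e rfl ≪≫ pullbackSpecIso K (P.residueField (Φ u')) K'
  haveI : IsGorensteinRing (CommRingCat.of (P.residueField (Φ u') ⊗[K] K')) := hfg
  exact gor_stalk_of_iso iso _ (gor_spec _ _)

theorem isLocallyNoetherian_of_essFiniteType [Algebra.EssFiniteType K K'] [IsLocallyNoetherian P]
    (H : IsPullback Φ p' p (Spec.map (CommRingCat.ofHom (algebraMap K K')))) : IsLocallyNoetherian P' := by
  suffices IsLocallyNoetherian (pullback p (Spec.map (CommRingCat.ofHom (algebraMap K K')))) from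
    isLocallyNoetherian_of_isOpenImmersion H.isoPullback.hom
  refine (isLocallyNoetherian_iff_openCover
    (Scheme.Pullback.openCoverOfLeft P.affineOpenCover.openCover p _)).mpr fun i => ?_
  obtain ⟨ψ, hψ⟩ := Spec.map_surjective (P.affineOpenCover.f i ≫ p)
  letI : Algebra K (P.affineOpenCover.X i) := ψ.hom.toAlgebra
  haveI : IsLocallyNoetherian (Spec (P.affineOpenCover.X i)) :=
    isLocallyNoetherian_of_isOpenImmersion (P.affineOpenCover.f i)
  haveI : IsNoetherianRing (P.affineOpenCover.X i) := isLocallyNoetherian_Spec.mp inferInstance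
  haveI : IsNoetherianRing (P.affineOpenCover.X i ⊗[K] K') :=
    Algebra.EssFiniteType.isNoetherianRing (P.affineOpenCover.X i) _
  haveI : IsLocallyNoetherian (Spec (CommRingCat.of (P.affineOpenCover.X i ⊗[K] K'))) :=
    isLocallyNoetherian_Spec.mpr inferInstance
  let e := pullback.congrHom (hψ.symm.trans rfl) rfl ≪≫ pullbackSpecIso K (P.affineOpenCover.X i) K'
  exact isLocallyNoetherian_of_isOpenImmersion
    (show pullback (P.affineOpenCover.f i ≫ p) (Spec.map (CommRingCat.ofHom (algebraMap K K'))) ⟶ _ from e.hom)

/-- Gorenstein local rings are stable under, and descend along, extensions of the base field which are finitely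
generated or applied to a scheme locally of finite type. -/
theorem gor_stalk_iff_baseChange [IsLocallyNoetherian P]
    (H : IsPullback Φ p' p (Spec.map (CommRingCat.ofHom (algebraMap K K')))) (u' : P')
    (h : Algebra.EssFiniteType K K' ∨ LocallyOfFiniteType p) :
    IsGorensteinLocalRing (P'.presheaf.stalk u') ↔ IsGorensteinLocalRing (P.presheaf.stalk (Φ u')) := by
  haveI : IsLocallyNoetherian P' := by
    rcases h with h | h
    · exact isLocallyNoetherian_of_essFiniteType H
    · haveI : LocallyOfFiniteType p' := MorphismProperty.of_isPullback H h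
      exact LocallyOfFiniteType.isLocallyNoetherian p'
  haveI : Flat (Spec.map (CommRingCat.ofHom (algebraMap K K'))) :=
    (HasRingHomProperty.Spec_iff (P := @Flat)).mpr (RingHom.flat_algebraMap_iff.mpr inferInstance)
  haveI : Flat Φ := MorphismProperty.of_isPullback H.flip ‹_›
  letI := (Φ.stalkMap u').hom.toAlgebra
  haveI : Module.Flat (P.presheaf.stalk (Φ u')) (P'.presheaf.stalk u') := Flat.stalkMap Φ u'
  haveI : IsLocalHom (algebraMap (P.presheaf.stalk (Φ u')) (P'.presheaf.stalk u')) :=
    inferInstanceAs (IsLocalHom (Φ.stalkMap u').hom)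
  have hcl := gor_closedFibre H u' h
  exact (gor_iff_of_flat_local (P.presheaf.stalk (Φ u')) (P'.presheaf.stalk u')).trans
    ⟨fun hh => hh.1, fun hh => ⟨hh, hcl⟩⟩

/-- The Gorenstein property of the local rings of the fibres is invariant under base change. -/
theorem fibre_gor_baseChange {X S X' S' : Scheme.{u}} {f : X ⟶ S} {f' : X' ⟶ S'} {g : S' ⟶ S} {g' : X' ⟶ X}
    (hc : IsPullback g' f' f g) (x' : X') (hfib : ∀ s, IsLocallyNoetherian (f.fiber s))
    (h : LocallyOfFiniteType f ∨ LocallyOfFiniteType g) :
    IsGorensteinLocalRing ((f'.fiber (f' x')).presheaf.stalk (f'.asFiber x')) ↔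
      IsGorensteinLocalRing ((f.fiber (f (g' x'))).presheaf.stalk (f.asFiber (g' x'))) := by
  have hkey : ∀ {s : S} (u : f.fiber s) (y : X), f.fiberι s u = y →
      (IsGorensteinLocalRing ((f.fiber s).presheaf.stalk u) ↔
        IsGorensteinLocalRing ((f.fiber (f y)).presheaf.stalk (f.asFiber y))) := by
    intro s u y hy
    obtain rfl : f y = s := by rw [← hy]; exact (f.range_fiberι s).subset (Set.mem_range_self u)
    obtain rfl : u = f.asFiber y :=
      (f.fiberι _).isEmbedding.injective (hy.trans (f.fiberι_asFiber y).symm)
    exact Iff.rfl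
  have hsq := isPullback_fiberToSpecResidueField_of_isPullback hc (f' x')
  haveI := hfib (g (f' x'))
  letI : Algebra (S.residueField (g (f' x'))) (S'.residueField (f' x')) :=
    (g.residueFieldMap (f' x')).hom.toAlgebra
  have h' : Algebra.EssFiniteType (S.residueField (g (f' x'))) (S'.residueField (f' x')) ∨
      LocallyOfFiniteType (f.fiberToSpecResidueField (g (f' x'))) := by
    rcases h with h | h
    · exact Or.inr (H8Props.FieldDim.locallyOfFiniteType_fiberToSpec f _)
    · exact Or.inl (RingHom.EssFiniteType.residueFieldMap (LocallyOfFiniteType.stalkMap g (f' x')))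
  refine (gor_stalk_iff_baseChange (K := S.residueField (g (f' x'))) (K' := S'.residueField (f' x'))
    (p := f.fiberToSpecResidueField (g (f' x'))) hsq (f'.asFiber x') h').trans (hkey _ _ ?_)
  erw [← Scheme.Hom.comp_apply, pullback.lift_fst]
  exact congrArg g' (f'.fiberι_asFiber x')

end Groth.Agent.H25Gor
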