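import Groth.Prelude.Def_Dual3
import Groth.Agent.H02CA.GorRing
import Groth.Agent.H8Props.CMAt

/-!
# Gorenstein schemes and morphisms: pointwise criteria
-/

set_option autoImplicit false
set_option linter.style.haveILetI false
universe u

open CategoryTheory AlgebraicGeometry IsLocalRing LocCoh Groth.Agent.H02CA.GorFlat

namespace Groth.Agent.H25Gor

variable {X Y : Scheme.{u}}

theorem gor_stalk_iff {U : X.Opens} (hU : IsAffineOpen U) (x : X) (hx : x ∈ U) :
    IsGorensteinLocalRing (X.presheaf.stalk x) ↔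
      IsGorensteinLocalRing (Localization.AtPrime (hU.primeIdealOf ⟨x, hx⟩).asIdeal) := by
  letI := X.presheaf.algebra_section_stalk ⟨x, hx⟩
  haveI := hU.isLocalization_stalk ⟨x, hx⟩
  exact gor_iff_of_ringEquiv
    (IsLocalization.algEquiv (hU.primeIdealOf ⟨x, hx⟩).asIdeal.primeCompl _ _).toRingEquiv

theorem gor_localization_of_stalks {U : X.Opens} (hU : IsAffineOpen U)
    (h : ∀ x ∈ U, IsGorensteinLocalRing (X.presheaf.stalk x)) (p : Ideal Γ(X, U)) [p.IsPrime] :
    IsGorensteinLocalRing (Localization.AtPrime p) := by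
  have hx : hU.fromSpec ⟨p, inferInstance⟩ ∈ U :=
    hU.range_fromSpec.subset ⟨_, rfl⟩
  have he : hU.primeIdealOf ⟨_, hx⟩ = ⟨p, inferInstance⟩ :=
    hU.fromSpec.isOpenEmbedding.injective (hU.fromSpec_primeIdealOf _)
  exact (gor_congr congr(($he).asIdeal)).mp ((gor_stalk_iff hU _ hx).mp (h _ hx))

theorem isGorensteinRing_sections {U : X.Opens} (hU : IsAffineOpen U) [IsLocallyNoetherian X]
    (h : ∀ x ∈ U, IsGorensteinLocalRing (X.presheaf.stalk x)) : IsGorensteinRing Γ(X, U) :=
  haveI : IsNoetherianRing Γ(X, U) := IsLocallyNoetherian.component_noetherian ⟨U, hU⟩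
  { isGorensteinLocalRing_localization := fun p _ => gor_localization_of_stalks hU h p }

theorem gor_stalk_of_sections {U : X.Opens} (hU : IsAffineOpen U) [IsGorensteinRing Γ(X, U)]
    (x : X) (hx : x ∈ U) : IsGorensteinLocalRing (X.presheaf.stalk x) :=
  (gor_stalk_iff hU x hx).mpr (IsGorensteinRing.isGorensteinLocalRing_localization _)

theorem isGorensteinAt_iff (f : X ⟶ Y) (x : X) :
    Dual3.IsGorensteinAt f x ↔ (f.stalkMap x).hom.Flat ∧
      IsGorensteinLocalRing
        (X.presheaf.stalk x ⧸ (maximalIdeal (Y.presheaf.stalk (f x))).map (f.stalkMap x).hom) :=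
  and_congr_right fun _ => gor_iff_of_ringEquiv (H8Props.FibreStalk.asFiberStalkEquiv f x).symm

variable {A B C : Type u} [CommRing A] [CommRing B] [CommRing C]

/-- Transitivity of "flat with Gorenstein closed fibre" for local homomorphisms. -/
theorem fibre_gor_iff [IsLocalRing A] [IsLocalRing B] [IsLocalRing C] (φ : A →+* B) (ψ : B →+* C)
    [IsLocalHom φ] [IsLocalHom ψ] (hψ : ψ.Flat)
    (hB : IsNoetherianRing (B ⧸ (maximalIdeal A).map φ))
    (hC : IsNoetherianRing (C ⧸ (maximalIdeal A).map (ψ.comp φ))) :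
    IsGorensteinLocalRing (C ⧸ (maximalIdeal A).map (ψ.comp φ)) ↔
      IsGorensteinLocalRing (B ⧸ (maximalIdeal A).map φ) ∧
        IsGorensteinLocalRing (C ⧸ (maximalIdeal B).map ψ) := by
  open H8Props in
  algebraize [ψ]
  set I := (maximalIdeal A).map φ with hI
  have hIle : I ≤ maximalIdeal B := map_maximalIdeal_le φ
  have hIC : I.map (algebraMap B C) = (maximalIdeal A).map (ψ.comp φ) := Ideal.map_map φ ψ
  have hC' : IsNoetherianRing (C ⧸ I.map (algebraMap B C)) := hIC ▸ hC
  have : Nontrivial (B ⧸ I) := Ideal.Quotient.nontrivial_iff.mpr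
    (ne_top_of_le_ne_top (maximalIdeal.isMaximal B).ne_top hIle)
  have : IsLocalHom (algebraMap B C) := ‹IsLocalHom ψ›
  have hIm : I.map (algebraMap B C) ≤ maximalIdeal C :=
    (Ideal.map_mono hIle).trans (map_maximalIdeal_le _)
  have : Nontrivial (C ⧸ I.map (algebraMap B C)) := Ideal.Quotient.nontrivial_iff.mpr
    (ne_top_of_le_ne_top (maximalIdeal.isMaximal C).ne_top hIm)
  have : IsLocalRing (B ⧸ I) := .of_surjective' _ Ideal.Quotient.mk_surjective
  have : IsLocalRing (C ⧸ I.map (algebraMap B C)) := .of_surjective' _ Ideal.Quotient.mk_surjective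
  have := FlatDepth.flat_base_quotient (B := C) I
  have := FlatDepth.isLocalHom_quotient (B := C) I
  have key := gor_iff_of_flat_local (B ⧸ I) (C ⧸ I.map (algebraMap B C))
  have hmax := FlatDepth.map_maximalIdeal_quotient (B := C) I
  let e : ((C ⧸ I.map (algebraMap B C)) ⧸
      (maximalIdeal (B ⧸ I)).map (algebraMap (B ⧸ I) (C ⧸ I.map (algebraMap B C)))) ≃+*
      C ⧸ (maximalIdeal B).map ψ :=
    (Ideal.quotEquivOfEq hmax).trans ((DoubleQuot.quotQuotEquivQuotSup _ _).trans
      (Ideal.quotEquivOfEq (sup_eq_right.mpr (Ideal.map_mono hIle))))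
  rw [← hIC]
  exact key.trans (and_congr_right fun _ => gor_iff_of_ringEquiv e)

end Groth.Agent.H25Gor
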